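import Cfsg.Agent.H843.N17
import Cfsg.Agent.H843.N23
import Cfsg.Agent.H843.N29

/-!
# S3509, row `Fi24'`: elements of order 17, 23, 29 are self-centralizing in `Fi24'` (helper273; from S5511, S5512)
-/

set_option autoImplicit false

namespace Cfsg.Agent.H273.RG

open Cfsg Subgroup Cfsg.Agent
open Cfsg.Spor (Fi24)
open Cfsg.Agent.R08.FiTwentyFour (L)

theorem self_aux {y x : Fi24} (hx : x ∈ commutator Fi24) (hc : Commute x y)
    (h : commutator Fi24 ⊓ centralizer ((zpowers y : Subgroup Fi24) : Set Fi24) = zpowers y) : x ∈ zpowers y := by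
  rw [← h]
  refine ⟨hx, mem_centralizer_iff.2 ?_⟩
  intro z hz
  obtain ⟨n, rfl⟩ := mem_zpowers_iff.1 hz
  exact (hc.zpow_right n).eq.symm

theorem self_cent {y x : Fi24} (hy : orderOf y = 17 ∨ orderOf y = 23 ∨ orderOf y = 29) (hx : x ∈ commutator Fi24)
    (hc : Commute x y) : x ∈ zpowers y := by
  have he : (MulEquiv.refl Fi24) '' L = L := by
    ext a
    simp
  rcases hy with hy | hy | hy
  · obtain ⟨f, hf, hfB⟩ := H843.Fi24N.exists_iso (MulEquiv.refl Fi24) he (p := 17) (by norm_num)
      (by rw [H843.Fi24N.card_Fi24]; norm_num) H843.D17.order (zpowers y) (by rw [Nat.card_zpowers, hy])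
    exact self_aux hx hc
      (H843.Fi24N.one (n := 17 * 16) f hf (by decide) H843.D17.order H843.D17.inter H843.D17.main.1 H843.D17.main.2 hfB).2.2.2
  · obtain ⟨f, hf, hfB⟩ := H843.Fi24N.exists_iso (MulEquiv.refl Fi24) he (p := 23) (by norm_num)
      (by rw [H843.Fi24N.card_Fi24]; norm_num) H843.D23.order (zpowers y) (by rw [Nat.card_zpowers, hy])
    exact self_aux hx hc
      (H843.Fi24N.one (n := 23 * 11) f hf (by decide) H843.D23.order H843.D23.inter H843.D23.main.1 H843.D23.main.2 hfB).2.2.2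
  · obtain ⟨f, -, hfB⟩ := H843.Fi24N.exists_iso (MulEquiv.refl Fi24) he (p := 29) (by norm_num)
      (by rw [H843.Fi24N.card_Fi24]; norm_num) H843.D29.order (zpowers y) (by rw [Nat.card_zpowers, hy])
    have hfin : Finite Fi24 := R08.FiTwentyFour.finite_Fi24
    have h1 : centralizer ((zpowers y : Subgroup Fi24) : Set Fi24) = zpowers y := by
      rw [← hfB, H841.Transport.coe_map, ← H841.Transport.map_centralizer]
      congr 1
      refine (Subgroup.eq_of_le_of_card_ge ?_ ?_).symm
      · exact Subgroup.le_centralizer _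
      · rw [H843.D29.main.2, Nat.card_zpowers, H843.D29.order]
    rw [← h1, mem_centralizer_iff]
    intro z hz
    obtain ⟨n, rfl⟩ := mem_zpowers_iff.1 hz
    exact (hc.zpow_right n).eq.symm

end Cfsg.Agent.H273.RG
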