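import Cfsg.Agent.H273.RG.MdFacts

/-!
# S3509, row `Fi24'`: covers with a member outside `Fi24'` (helper273)

* `dead_member` : no cover commutes with a transposition (which may be a member);
* `dead_cyc` : `x i = a b c`, `x j` of order three permutes `a`, `b`, `c` cyclically;
* `caseF` : no cover of a `Fi24`-set has a member outside `Fi24'`.
-/

set_option autoImplicit false
set_option linter.unusedSectionVars false

namespace Cfsg.Agent.H273.RG

open MulAction Subgroup Cfsg Cfsg.Agent.R08 Cfsg.Agent.R08.FiTwentyFour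
open Cfsg.Agent.H106.RC Cfsg.Agent.H873.RG Cfsg.Agent.H86.RG
open Cfsg.Agent.R08.FiTwentyFour (L)
open Cfsg.Spor (Fi24 Fi23)
open Cfsg.Agent.H833.Out24 (Tri3)
open scoped Pointwise

section

variable {Ω : Type*} [Nonempty Ω] [MulAction Fi24 Ω]

theorem exists_ne_mem {d : Fi24} (hd : d ∈ L) : ∃ m ∈ Md d, m ≠ 1 := by
  obtain ⟨e, he, hed, ce, -⟩ := exists_comm hd
  refine ⟨_, mul_mem_Md hd he ce, fun h => hed ?_⟩
  have hdd : d * d = 1 := sq_L hd
  exact mul_left_cancel (h.trans hdd.symm)

/-- **No cover by a commuting family commutes with a transposition.** -/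
theorem dead_member (hIH : IHx (Nat.card Spor.Fi24')) (hE : Env Fi24 Ω (commutator Fi24)) {ι : Type*} [Finite ι]
    {x : ι → Fi24} {r : ι → ℕ} (hx : PF x r) (hc : Cov Ω x) {d : Fi24} (hd : d ∈ L)
    (hcomm : ∀ i, x i * d = d * x i) : False := by
  obtain ⟨e, he, hed, ce, -⟩ := exists_comm hd
  obtain ⟨s, -, h1, h2⟩ := trans2 hd he he hd hed.symm ce.symm hed ce
  have hdd : d * d = 1 := sq_L hd
  have hne : d * e ≠ 1 := fun h => hed (mul_left_cancel (h.trans hdd.symm))
  have key : ∀ ω : Ω, (d * e) • ω = ω ∨ d • ω = ω := by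
    intro ω
    rcases md_or hIH hx hd hcomm ω (fun m _ => hc (m • ω)) with h | ⟨j, hj, hjω⟩
    · exact Or.inl (h (mul_mem_Md hd he ce))
    · rw [hj] at hjω
      exact Or.inr hjω
  have hconj : ∀ (y : Fi24) (ω : Ω), y • s⁻¹ • ω = s⁻¹ • ω → (s * y * s⁻¹) • ω = ω := by
    intro y ω h
    rw [mul_smul, mul_smul, h, smul_inv_smul]
  refine hE.not_all hne fun ω => ?_
  rw [mem_stabilizer_iff]
  rcases key ω with h | h
  · exact h
  · rcases key (s⁻¹ • ω) with h' | h'
    · have h3 := hconj _ _ h'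
      have h4 : s * (d * e) * s⁻¹ = d * e := by
        calc s * (d * e) * s⁻¹ = s * d * s⁻¹ * (s * e * s⁻¹) := by group
          _ = e * d := by rw [h1, h2]
          _ = d * e := ce.eq
      rwa [h4] at h3
    · have h3 := hconj _ _ h'
      rw [h1] at h3
      rw [mul_smul, h3, h]

/-- the pair of a point under `c` -/
def prs (c : Fi24) (ω : Ω) : Set Ω := {ω, c • ω}

theorem smul_prs {c g : Fi24} (hg : g * c = c * g) (ω : Ω) : g • prs c ω = prs c (g • ω) := by
  unfold prs
  rw [Set.smul_set_insert, Set.smul_set_singleton, ← mul_smul, hg, mul_smul]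

theorem prs_smul {c : Fi24} (hc : c * c = 1) (ω : Ω) : prs c (c • ω) = prs c ω := by
  unfold prs
  rw [← mul_smul, hc, one_smul, Set.pair_comm]

/-- **a product of three transpositions and an element of order three permuting them** -/
theorem dead_cyc (hIH : IHx (Nat.card Spor.Fi24')) (hE : Env Fi24 Ω (commutator Fi24)) {ι : Type*} [Finite ι]
    {x : ι → Fi24} {r : ι → ℕ} (hx : PF x r) (hc : Cov Ω x) {a b c : Fi24} (h : Tri3 a b c) {i j : ι}
    (hij : i ≠ j) (hri : r i = 2) (hi : x i = a * b * c) (hjb : x j * b * (x j)⁻¹ = c) (hjc : x j * c * (x j)⁻¹ = a)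
    (hoth : ∀ k, k ≠ i → k ≠ j → Commute (x k) a ∧ Commute (x k) b ∧ Commute (x k) c) : False := by
  classical
  have haa : a * a = 1 := sq_L h.ha
  have hbb : b * b = 1 := sq_L h.hb
  have hcc : c * c = 1 := sq_L h.hc
  have hai : a⁻¹ = a := inv_eq_of_mul_eq_one_left haa
  have hcab : Commute c (a * b) := (h.ac.symm).mul_right h.bc.symm
  have hC : ∀ k, k ≠ j → Commute (b * c) (x k) := by
    intro k hk
    by_cases hki : k = i
    · rw [hki, hi]
      exact ((h.ab.symm.mul_left h.ac.symm).mul_right ((Commute.refl b).mul_left h.bc.symm)).mul_right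
        (h.bc.mul_left (Commute.refl c))
    · obtain ⟨-, h2, h3⟩ := hoth k hki hk
      exact (h2.mul_right h3).symm
  have hc1 := hc.mv_comm j (c := b * c) (fun k hk => (hC k hk).eq)
  have hval : b * c * x j * (b * c)⁻¹ * (x j)⁻¹ = a * b := by
    have e1 : x j * (b * c) * (x j)⁻¹ = c * a := by
      calc x j * (b * c) * (x j)⁻¹ = x j * b * (x j)⁻¹ * (x j * c * (x j)⁻¹) := by group
        _ = c * a := by rw [hjb, hjc]
    calc b * c * x j * (b * c)⁻¹ * (x j)⁻¹ = b * c * (x j * (b * c) * (x j)⁻¹)⁻¹ := by group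
      _ = b * c * (c * a)⁻¹ := by rw [e1]
      _ = b * c * (a⁻¹ * c⁻¹) := by rw [mul_inv_rev]
      _ = b * (c * a) * c⁻¹ := by rw [hai]; group
      _ = b * (a * c) * c⁻¹ := by rw [h.ac.eq]
      _ = b * a := by group
      _ = a * b := h.ab.eq.symm
  rw [hval] at hc1
  -- the new family
  let y : {k // k ≠ j} → Fi24 := fun k => if (k : ι) = i then a * b else x k
  have yi : ∀ k : {k // k ≠ j}, (k : ι) = i → y k = a * b := fun k hk => if_pos hk
  have yo : ∀ k : {k // k ≠ j}, (k : ι) ≠ i → y k = x k := fun k hk => if_neg hk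
  have habab : (a * b) ^ 2 = 1 := by
    rw [pow_two]
    calc a * b * (a * b) = a * (b * a) * b := by group
      _ = a * (a * b) * b := by rw [h.ab.eq]
      _ = (a * a) * (b * b) := by group
      _ = 1 := by rw [haa, hbb, one_mul]
  have hab1 : a * b ≠ 1 := fun h1 => h.nab.symm (mul_left_cancel (h1.trans haa.symm))
  have hxab : ∀ k : ι, k ≠ i → k ≠ j → Commute (x k) (a * b) := fun k h1 h2 =>
    (hoth k h1 h2).1.mul_right (hoth k h1 h2).2.1
  have hPF : PF y (fun k => r k) := by
    refine ⟨fun k => hx.prime k, fun k l hkl => Subtype.ext (hx.inj hkl), fun k => ?_, fun k => ?_, fun k l => ?_⟩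
    · by_cases hk : (k : ι) = i
      · rw [yi k hk, hk, hri]
        exact habab
      · rw [yo k hk]
        exact hx.pow k
    · by_cases hk : (k : ι) = i
      · rw [yi k hk]
        exact hab1
      · rw [yo k hk]
        exact hx.ne k
    · by_cases hk : (k : ι) = i
      · by_cases hl : (l : ι) = i
        · rw [yi k hk, yi l hl]
        · rw [yi k hk, yo l hl]
          exact (hxab l hl l.2).eq.symm
      · by_cases hl : (l : ι) = i
        · rw [yo k hk, yi l hl]
          exact (hxab k hk k.2).eq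
        · rw [yo k hk, yo l hl]
          exact hx.comm k l
  have hyc : ∀ k, y k * c = c * y k := by
    intro k
    by_cases hk : (k : ι) = i
    · rw [yi k hk]
      exact hcab.symm.eq
    · rw [yo k hk]
      exact (hoth k hk k.2).2.2.eq
  have hyne : ∀ k, y k ≠ c := by
    intro k hk'
    by_cases hk : (k : ι) = i
    · rw [yi k hk] at hk'
      apply FiTwentyFour.odd h.hc
      rw [← hk']
      exact FiTwentyFour.even h.ha h.hb
    · rw [yo k hk] at hk'
      have h1 := hx.pow k
      have h2 : x k ^ 2 = 1 := by rw [hk', pow_two, hcc]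
      have h3 : orderOf (x k) ∣ Nat.gcd (r k) 2 :=
        Nat.dvd_gcd (orderOf_dvd_of_pow_eq_one h1) (orderOf_dvd_of_pow_eq_one h2)
      have h4 : Nat.gcd (r k) 2 = 1 := (Nat.coprime_primes (hx.prime k) Nat.prime_two).2 (fun h5 =>
        hk (hx.inj (h5.trans hri.symm)))
      rw [h4] at h3
      exact hx.ne k (orderOf_eq_one_iff.1 (Nat.dvd_one.1 h3))
  -- the members fix the pairs
  have hcov : ∀ η : Ω, ∃ k, y k • prs c η = prs c η := by
    intro η
    obtain ⟨k, hk⟩ := hc1 η
    by_cases hkj : k = j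
    · subst hkj
      rw [Function.update_self] at hk
      refine ⟨⟨i, hij⟩, ?_⟩
      rw [yi _ rfl, smul_prs hcab.symm.eq, hk]
    · rw [Function.update_of_ne hkj] at hk
      by_cases hki : k = i
      · refine ⟨⟨i, hij⟩, ?_⟩
        rw [hki, hi] at hk
        have h1 : (a * b) • η = c • η := by
          have h2 : a * b = c * (a * b * c) := by
            calc a * b = a * b * (c * c) := by rw [hcc, mul_one]
              _ = a * b * c * c := by group
              _ = c * (a * b * c) := by rw [← mul_assoc c, hcab.eq]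
          rw [h2, mul_smul, hk]
        rw [yi _ rfl, smul_prs hcab.symm.eq, h1, prs_smul hcc]
      · refine ⟨⟨k, hkj⟩, ?_⟩
        rw [yo _ hki, smul_prs (hoth k hki hkj).2.2.eq, hk]
  have hst : ∀ (ω : Ω), ∀ m ∈ Md c, m • ω = ω ∨ m • ω = c • ω := by
    intro ω m hm
    have h1 := md_or hIH hPF h.hc hyc (prs c ω) (fun m hm => by
      rw [smul_prs (mem_Md.1 hm).2]
      exact hcov _)
    rcases h1 with h1 | ⟨k, hk, -⟩
    · have h2 : m • prs c ω = prs c ω := h1 hm
      have h3 : m • ω ∈ m • prs c ω := Set.smul_mem_smul_set (Set.mem_insert _ _)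
      rw [h2] at h3
      exact h3
    · exact absurd hk (hyne k)
  have hcm : ∀ (m m' : Fi24), m ∈ Md c → m' ∈ Md c → ∀ ω : Ω, (m * m') • ω = (m' * m) • ω := by
    intro m m' hm hm' ω
    have e1 : ∀ ω : Ω, m • c • ω = c • m • ω := fun ω => by rw [← mul_smul, (mem_Md.1 hm).2, mul_smul]
    have e2 : ∀ ω : Ω, m' • c • ω = c • m' • ω := fun ω => by rw [← mul_smul, (mem_Md.1 hm').2, mul_smul]
    rw [mul_smul, mul_smul]
    rcases hst ω m hm with h1 | h1 <;> rcases hst ω m' hm' with h2 | h2
    · rw [h2, h1, h2]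
    · rw [h2, e1, h1, h2]
    · rw [h2, h1, e2, h2]
    · rw [h2, e1, h1, e2, h2]
  obtain ⟨m, hm, hm1⟩ := exists_ne_mem h.hc
  refine hE.not_all hm1 fun ω => ?_
  have hle : ⁅Md c, Md c⁆ ≤ stabilizer Fi24 ω := by
    rw [Subgroup.commutator_le]
    intro u hu v hv
    rw [mem_stabilizer_iff, commutatorElement_def]
    have h1 := hcm u v hu hv ((u⁻¹ * v⁻¹) • ω)
    rw [← mul_smul, ← mul_smul] at h1
    have e1 : u * v * (u⁻¹ * v⁻¹) = u * v * u⁻¹ * v⁻¹ := by group
    have e2 : v * u * (u⁻¹ * v⁻¹) = 1 := by group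
    rwa [e1, e2, one_smul] at h1
  rw [perfect_Md h.hc] at hle
  exact hle hm

/-- **A cover has no member outside `Fi24'`.** -/
theorem caseF (hIH : IHx (Nat.card Spor.Fi24')) (hE : Env Fi24 Ω (commutator Fi24)) {ι : Type*} [Finite ι]
    {x : ι → Fi24} {r : ι → ℕ} (hx : PF x r) (hc : Cov Ω x) (hout : ∃ i, x i ∉ commutator Fi24) : False := by
  obtain ⟨i, hi⟩ := hout
  have hsq : ∀ g : Fi24, g * g ∈ commutator Fi24 := fun g => Subgroup.mul_self_mem_of_index_two index_commutator g
  have hri : r i = 2 := by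
    by_contra hne
    obtain ⟨k, hk⟩ := (hx.prime i).odd_of_ne_two hne
    apply hi
    have h1 := hx.pow i
    rw [hk, pow_succ, pow_mul, pow_two] at h1
    have h2 : x i = ((x i * x i) ^ k)⁻¹ := (inv_eq_of_mul_eq_one_right h1).symm
    rw [h2]
    exact inv_mem (pow_mem (hsq _) k)
  have hii : x i * x i = 1 := by
    have h1 := hx.pow i
    rwa [hri, pow_two] at h1
  rcases H833.Out24.outer_cases hi hii with hL | ⟨a, b, c, h, habc⟩
  · exact dead_member hIH hE hx hc hL (fun k => hx.comm k i)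
  · have hodd : ∀ k, k ≠ i → r k ≠ 2 := fun k hk h2 => hk (hx.inj (h2.trans hri.symm))
    have hall : ∀ k, k ≠ i → _ := fun k hk => cyc_of_odd h (show Commute (x k) (a * b * c) by
      rw [← habc]; exact hx.comm k i) (hx.prime k) (hodd k hk) (hx.pow k)
    have haa : Commute (x i) a := by
      rw [habc]
      exact ((Commute.refl a).mul_left h.ab.symm).mul_left h.ac.symm
    by_cases hex : ∃ j, j ≠ i ∧ ¬ (Commute (x j) a ∧ Commute (x j) b ∧ Commute (x j) c)
    · obtain ⟨j, hji, hj⟩ := hex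
      rcases hall j hji with h1 | ⟨h3, h1, h2, h4⟩ | ⟨h3, h1, h2, h4⟩
      · exact hj h1
      · refine dead_cyc hIH hE hx hc h (i := i) (j := j) hji.symm hri habc h2 h4 ?_
        intro k hki hkj
        rcases hall k hki with h5 | ⟨h5, -⟩ | ⟨h5, -⟩
        · exact h5
        · exact absurd (hx.inj (h5.trans h3.symm)) hkj
        · exact absurd (hx.inj (h5.trans h3.symm)) hkj
      · refine dead_cyc hIH hE hx hc (a := a) (b := c) (c := b)
          ⟨h.ha, h.hc, h.hb, h.ac, h.ab, h.bc.symm, h.nac, h.nab, h.nbc.symm⟩ (i := i) (j := j) hji.symm hri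
          (by rw [habc, mul_assoc, h.bc.eq, ← mul_assoc]) h2 h4 ?_
        intro k hki hkj
        rcases hall k hki with h5 | ⟨h5, -⟩ | ⟨h5, -⟩
        · exact ⟨h5.1, h5.2.2, h5.2.1⟩
        · exact absurd (hx.inj (h5.trans h3.symm)) hkj
        · exact absurd (hx.inj (h5.trans h3.symm)) hkj
    · push Not at hex
      refine dead_member hIH hE hx hc h.ha fun k => ?_
      by_cases hk : k = i
      · rw [hk]
        exact haa.eq
      · exact (hex k hk).1.eq

end

end Cfsg.Agent.H273.RG
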