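import Cfsg.Agent.H273.RG.CaseF
import Cfsg.Agent.KFacts.FiTF.FrameF

/-!
# S3509, row `Fi24'`: from the models `Fi24`, `Fi24'` to all groups (helper273)

* `exists_emb` : `N ≅ Fi24'` normal in `G`, `C_G(N) = 1`: `G` embeds in `Fi24`;
* `rc_of_caseL` : `RC` for `Fi24'` from `CaseL` (no cover of a `Fi24'`-set) and `caseF`.
-/

set_option autoImplicit false

namespace Cfsg.Agent.H273.RG

open MulAction Subgroup Cfsg Cfsg.Agent.R08 Cfsg.Agent.R08.FiTwentyFour
open Cfsg.Agent.H106.RC Cfsg.Agent.H873.RG Cfsg.Agent.H86.RG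
open Cfsg.Agent.R08.FiTwentyFour (L)
open Cfsg.Agent.Fischer.Fi24Class (gen)
open Cfsg.Spor (Fi24 Fi24')

/-- the centralizer of `Fi24'` in `Fi24` is trivial -/
theorem cent_comm {x : Fi24} (hx : ∀ m ∈ commutator Fi24, x * m = m * x) : x = 1 := by
  have hl : gen .l ∈ L := gen_mem_L .l
  obtain ⟨e, he, hel, -⟩ := exists_comm hl
  rcases cent_Md hl (fun m hm => hx m (mem_Md.1 hm).1) with h | h
  · exact h
  · rcases cent_Md he (fun m hm => hx m (mem_Md.1 hm).1) with h' | h'
    · exact h'
    · exact absurd (h'.symm.trans h) hel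

theorem cent_top : centralizer ((commutator Fi24 : Subgroup Fi24) : Set Fi24) = ⊥ := by
  rw [eq_bot_iff]
  intro x hx
  rw [mem_bot]
  exact cent_comm fun m hm => (mem_centralizer_iff.1 hx m hm).symm

theorem ncomm_comm : ¬ IsMulCommutative ↥(commutator Fi24) := by
  intro h
  obtain ⟨x, y, hxy⟩ := H830.Con24.ncomm
  exact hxy (h.is_comm.comm x y)

/-- **the embedding into `Fi24`** -/
theorem exists_emb {G : Type*} [Group G] {N : Subgroup G} (hN : N.Normal) (hC : centralizer (N : Set G) = ⊥)
    (e : N ≃* Fi24') : ∃ f : G →* Fi24, Function.Injective f ∧ ∀ n : N, f n = (e n : Fi24) := by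
  have := hN
  have h1 : ∀ g : G, ∃ y : Fi24, ∀ n : N, ((e (MulAut.conjNormal g n) : Fi24') : Fi24) = y * (e n : Fi24) * y⁻¹ := by
    intro g
    let α : MulAut Fi24' := (e.symm.trans (MulAut.conjNormal g)).trans e
    obtain ⟨y, hy⟩ := KFacts.FiTF.exists_conj α
    refine ⟨y, fun n => ?_⟩
    rw [← hy (e n)]
    change _ = ((e (MulAut.conjNormal g (e.symm (e n))) : Fi24') : Fi24)
    rw [e.symm_apply_apply]
  choose F hF using h1
  have uniq : ∀ y y' : Fi24, (∀ n : N, y * (e n : Fi24) * y⁻¹ = y' * (e n : Fi24) * y'⁻¹) → y = y' := by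
    intro y y' h
    have h2 : y'⁻¹ * y = 1 := by
      apply cent_comm
      intro m hm
      have h3 := h (e.symm ⟨m, hm⟩)
      rw [e.apply_symm_apply] at h3
      calc y'⁻¹ * y * m = y'⁻¹ * (y * m * y⁻¹) * y := by group
        _ = y'⁻¹ * (y' * m * y'⁻¹) * y := by rw [h3]
        _ = m * (y'⁻¹ * y) := by group
    exact (inv_mul_eq_one.1 h2).symm
  have hmul : ∀ g g' : G, F (g * g') = F g * F g' := by
    intro g g'
    apply uniq
    intro n
    rw [← hF]
    calc ((e (MulAut.conjNormal (g * g') n) : Fi24') : Fi24)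
        = ((e (MulAut.conjNormal g (MulAut.conjNormal g' n)) : Fi24') : Fi24) := by rw [map_mul]; rfl
      _ = F g * (F g' * (e n : Fi24) * (F g')⁻¹) * (F g)⁻¹ := by rw [hF, hF]
      _ = _ := by group
  let f : G →* Fi24 := MonoidHom.mk' F hmul
  refine ⟨f, ?_, ?_⟩
  · rw [injective_iff_map_eq_one]
    intro g hg
    have hg' : F g = 1 := hg
    have h2 : g ∈ centralizer (N : Set G) := by
      rw [mem_centralizer_iff]
      intro n hn
      have h3 := hF g ⟨n, hn⟩
      rw [hg', one_mul, inv_one, mul_one] at h3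
      have h4 := e.injective (Subtype.ext h3)
      have h5 : g * n * g⁻¹ = n := by
        have := congrArg Subtype.val h4
        rwa [MulAut.conjNormal_apply] at this
      exact (mul_inv_eq_iff_eq_mul.1 h5).symm
    rwa [hC, mem_bot] at h2
  · intro n
    apply uniq
    intro m
    show F n * (e m : Fi24) * (F n)⁻¹ = _
    rw [← hF]
    have h2 : MulAut.conjNormal (n : G) m = n * m * n⁻¹ := Subtype.ext (by
      rw [MulAut.conjNormal_apply]; rfl)
    rw [h2, map_mul, map_mul, map_inv]
    rfl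

/-- no cover of a `Fi24'`-set -/
def CaseL : Prop :=
  ∀ {Ω : Type} [Finite Ω] [Nonempty Ω] [MulAction Fi24' Ω] (_ : Env Fi24' Ω ⊤) {ι : Type} [Finite ι]
    {x : ι → Fi24'} {r : ι → ℕ} (_ : PF x r) (_ : Cov Ω x), False

theorem simple_comm : IsSimpleGroup ↥(commutator Fi24) := H830.Con24.isSimple

theorem pf_map {G G' : Type*} [Group G] [Group G'] {ι : Type*} {x : ι → G} {r : ι → ℕ} (hx : PF x r) (f : G →* G')
    (hf : Function.Injective f) : PF (fun i => f (x i)) r :=
  ⟨hx.prime, hx.inj, fun i => by rw [← map_pow, hx.pow, map_one], fun i h => hx.ne i (hf (h.trans (map_one f).symm)),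
    fun i j => by rw [← map_mul, hx.comm, map_mul]⟩

/-- **No cover.** -/
theorem noCov_of_caseL (hIH : IHx (Nat.card Fi24')) (hL : CaseL) {G : Type} [Group G] [Finite G] {Ω : Type} [Finite Ω]
    [Nonempty Ω] [MulAction G Ω] {N : Subgroup G} (hE : Env G Ω N) (e : N ≃* Fi24') {ι : Type} [Finite ι]
    {x : ι → G} {r : ι → ℕ} (hx : PF x r) (hc : Cov Ω x) : False := by
  by_cases hin : ∀ i, x i ∈ N
  · -- everything inside `N`
    let _ : MulAction Fi24' Ω := MulAction.compHom Ω ((N.subtype).comp e.symm.toMonoidHom)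
    have hsm : ∀ (k : Fi24') (ω : Ω), k • ω = ((e.symm k : N) : G) • ω := fun k ω => rfl
    have hx0 : PF (fun i => (⟨x i, hin i⟩ : N)) r :=
      ⟨hx.prime, hx.inj, fun i => Subtype.ext (hx.pow i), fun i h => hx.ne i (congrArg Subtype.val h),
        fun i j => Subtype.ext (hx.comm i j)⟩
    have hx1 := pf_map hx0 e.toMonoidHom e.injective
    refine hL (Ω := Ω) ?_ hx1 ?_
    · refine ⟨inferInstance, ?_, ?_, ?_, ?_⟩
      · exact (MulEquiv.isSimpleGroup_congr topEquiv).2 simple_comm
      · intro h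
        apply ncomm_comm
        constructor
        constructor
        intro a b
        exact congrArg Subtype.val (h.is_comm.comm (⟨a, mem_top a⟩ : (⊤ : Subgroup Fi24')) ⟨b, mem_top b⟩)
      · rw [eq_bot_iff]
        intro k hk
        rw [mem_bot]
        apply Subtype.ext
        apply cent_comm
        intro m hm
        exact (congrArg Subtype.val (mem_centralizer_iff.1 hk ⟨m, hm⟩ (mem_top _))).symm
      · intro ω hle
        apply hE.nofix ω
        intro n hn
        have h1 : e ⟨n, hn⟩ ∈ stabilizer Fi24' ω := hle (mem_top _)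
        rw [mem_stabilizer_iff, hsm, e.symm_apply_apply] at h1
        exact h1
    · intro ω
      obtain ⟨i, hi⟩ := hc ω
      refine ⟨i, ?_⟩
      rw [hsm]
      change ((e.symm (e ⟨x i, hin i⟩) : N) : G) • ω = ω
      rw [e.symm_apply_apply]
      exact hi
  · -- a member outside
    push Not at hin
    obtain ⟨i, hi⟩ := hin
    obtain ⟨f, hfi, hf⟩ := exists_emb hE.norm hE.cent e
    have hfN : ∀ g : G, f g ∈ commutator Fi24 → g ∈ N := by
      intro g hg
      have h1 : f g = f (e.symm ⟨f g, hg⟩ : N) := by rw [hf, e.apply_symm_apply]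
      rw [hfi h1]
      exact (e.symm ⟨f g, hg⟩ : N).2
    have hle : commutator Fi24 ≤ f.range := by
      intro y hy
      exact ⟨(e.symm ⟨y, hy⟩ : N), by rw [hf, e.apply_symm_apply]⟩
    have hfs : Function.Surjective f := by
      intro y
      have hout : f (x i) ∉ commutator Fi24 := fun h => hi (hfN _ h)
      by_cases hy : y ∈ commutator Fi24
      · exact hle hy
      · have h1 : y * f (x i) ∈ commutator Fi24 := by
          rw [Subgroup.mul_mem_iff_of_index_two index_commutator]
          exact ⟨fun h => absurd h hy, fun h => absurd h hout⟩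
        obtain ⟨g, hg⟩ := hle h1
        exact ⟨g * (x i)⁻¹, by rw [map_mul, map_inv, hg, mul_inv_cancel_right]⟩
    let φ : G ≃* Fi24 := MulEquiv.ofBijective f ⟨hfi, hfs⟩
    let _ : MulAction Fi24 Ω := MulAction.compHom Ω φ.symm.toMonoidHom
    have hsm : ∀ (k : Fi24) (ω : Ω), k • ω = φ.symm k • ω := fun k ω => rfl
    have hφ : ∀ g : G, φ g = f g := fun g => rfl
    refine caseF hIH (Ω := Ω) ?_ (pf_map hx f hfi) ?_ ⟨i, fun h => hi (hfN _ h)⟩
    · refine ⟨inferInstance, simple_comm, ncomm_comm, cent_top, ?_⟩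
      intro ω hle'
      apply hE.nofix ω
      intro n hn
      have h1 : f n ∈ stabilizer Fi24 ω := by
        apply hle'
        have h2 := hf ⟨n, hn⟩
        rw [show f n = f ((⟨n, hn⟩ : N) : G) from rfl, h2]
        exact (e ⟨n, hn⟩).2
      rw [mem_stabilizer_iff, hsm, ← hφ, φ.symm_apply_apply] at h1
      exact h1
    · intro ω
      obtain ⟨j, hj⟩ := hc ω
      refine ⟨j, ?_⟩
      change φ.symm (φ (x j)) • ω = ω
      rw [φ.symm_apply_apply]
      exact hj

/-- **`RC` for `Fi24'`** -/
theorem rc_of_caseL {S : Type} [Group S] [Finite S] (h : Spor.IsoFi24' S) (hIH : IHx (Nat.card S))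
    (hL : IHx (Nat.card Fi24') → CaseL) : RC S := by
  obtain ⟨e⟩ := h
  have hc : Nat.card S = Nat.card Fi24' := Nat.card_congr e.toEquiv
  rw [hc] at hIH
  have hs : IsSimpleGroup S := (MulEquiv.isSimpleGroup_congr e).2 simple_comm
  have hn : ¬ IsMulCommutative S := by
    intro h
    apply ncomm_comm
    constructor
    constructor
    intro a b
    apply e.symm.injective
    rw [map_mul, map_mul]
    exact h.is_comm.comm _ _
  refine rc_of_noCov hs hn ?_
  intro G _ _ Ω _ _ _ N hE eN ι _ x r hx hcov _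
  exact noCov_of_caseL hIH (hL hIH) hE (eN.trans e) hx hcov

end Cfsg.Agent.H273.RG
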