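import Cfsg.Agent.H86.RG.Fam
import Cfsg.Agent.H833.Out24
import Cfsg.Agent.H831.Triple8
import Cfsg.Agent.H830.Con24

/-!
# S3509, row `Fi24'`: the centralizer of a transposition (helper273)

`Md d = Fi24' ∩ C(d) ≅ Fi23`, `d` a transposition of `Fi24`.

* `exists_psi` : the embedding of `Fi23`; `cent_Md` : `C(Md d) = {1, d}`;
* `md_or` : the M-rule with `Md d` (any `Fi24`-set);
* `perm_two`, `perm_three` : elements commuting with a product of two or three commuting transpositions.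
-/

set_option autoImplicit false

namespace Cfsg.Agent.H273.RG

open MulAction Subgroup Cfsg Cfsg.Agent.R08 Cfsg.Agent.R08.FiTwentyFour
open Cfsg.Agent.H106.RC Cfsg.Agent.H873.RG Cfsg.Agent.H86.RG
open Cfsg.Agent.R08.FiTwentyFour (L)
open Cfsg.Agent.Fischer.Fi24Class (gen)
open Cfsg.Spor (Fi24 Fi23)
open Cfsg.Agent.H833.Out24 (Tri3)

/-- `Fi24' ∩ C(d)` -/
def Md (d : Fi24) : Subgroup Fi24 := commutator Fi24 ⊓ centralizer ({d} : Set Fi24)

theorem mem_Md {d x : Fi24} : x ∈ Md d ↔ x ∈ commutator Fi24 ∧ x * d = d * x := by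
  rw [Md, mem_inf, mem_centralizer_singleton_iff]

/-- the embedding of `Fi23` -/
theorem exists_psi {d : Fi24} (hd : d ∈ L) :
    ∃ ψ : Fi23 →* Fi24, Function.Injective ψ ∧ ∀ x, (∃ k, ψ k = x) ↔ x ∈ Md d := by
  have F := FiTwentyFour.facts
  obtain ⟨h, rfl⟩ := isConj_iff.1 (show IsConj (gen .l) d from hd)
  refine ⟨(MulAut.conj h).toMonoidHom.comp F.phi, (MulAut.conj h).injective.comp F.phi_injective, fun x => ?_⟩
  have hn : (commutator Fi24).Normal := inferInstance
  constructor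
  · rintro ⟨k, rfl⟩
    have e : ((MulAut.conj h).toMonoidHom.comp F.phi) k = h * F.phi k * h⁻¹ := rfl
    rw [e, mem_Md]
    refine ⟨hn.conj_mem _ (mem_commutator_iff.2 (F.sgn_phi k)) h, ?_⟩
    calc h * F.phi k * h⁻¹ * (h * gen .l * h⁻¹) = h * (F.phi k * gen .l) * h⁻¹ := by group
      _ = h * (gen .l * F.phi k) * h⁻¹ := by rw [F.phi_comm]
      _ = _ := by group
  · intro hx
    obtain ⟨h1, h2⟩ := mem_Md.1 hx
    obtain ⟨k, hk⟩ := (F.mem_range_iff (h⁻¹ * x * h)).2 ⟨by
      calc h⁻¹ * x * h * gen .l = h⁻¹ * (x * (h * gen .l * h⁻¹)) * h := by group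
        _ = h⁻¹ * ((h * gen .l * h⁻¹) * x) * h := by rw [h2]
        _ = _ := by group, by
      rw [← mem_commutator_iff]
      have := hn.conj_mem x h1 h⁻¹
      rwa [inv_inv] at this⟩
    refine ⟨k, ?_⟩
    change h * F.phi k * h⁻¹ = x
    rw [hk]
    group

/-! ### `Fi23` -/

theorem card23 : Nat.card Fi23 = 4089470473293004800 := Fischer.Fi23Simple.isFi23.2

theorem nsa23 : NSA Fi23 := by
  refine ⟨Fischer.Fi23Simple.isFi23.1, fun h => ?_, not_alt (k := 20) ?_ ?_⟩
  · obtain ⟨x, y, hxy⟩ := H830.Con23.ncomm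
    exact hxy (h.is_comm.comm x y)
  · rw [card23]
    norm_num [Nat.factorial]
  · rw [card23]
    norm_num [Nat.factorial]

theorem center23 {z : Fi23} (hz : ∀ x, z * x = x * z) : z = 1 := by
  have h1 := H830.Con24.center_of_simple Fischer.Fi23Simple.isFi23.1 H830.Con23.ncomm
  have h2 : z ∈ center Fi23 := mem_center_iff.2 fun x => (hz x).symm
  rwa [h1, mem_bot] at h2

theorem comm_perfect23 : commutator Fi23 = ⊤ := by
  have hs := Fischer.Fi23Simple.isFi23.1
  rcases hs.eq_bot_or_eq_top_of_normal (commutator Fi23) inferInstance with h | h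
  · exfalso
    rw [commutator_eq_bot_iff_center_eq_top] at h
    obtain ⟨x, y, hxy⟩ := H830.Con23.ncomm
    have h1 : y ∈ center Fi23 := by rw [h]; exact mem_top _
    exact hxy (mem_center_iff.1 h1 x)
  · exact h

/-! ### Centralizers -/

theorem perfect_Md {d : Fi24} (hd : d ∈ L) : ⁅Md d, Md d⁆ = Md d := by
  obtain ⟨ψ, hi, hψ⟩ := exists_psi hd
  have h1 : Md d = ψ.range := by
    ext x
    rw [← hψ]
    exact Iff.rfl
  rw [h1, MonoidHom.range_eq_map, ← Subgroup.map_commutator, ← commutator_def, comm_perfect23]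

theorem noRel : H831.Short.NoRel L 7 :=
  H831.Short.noRel_eight FiTwentyFour.isThreeTranspositionClass.1 H830.Con24.isT8

theorem perm_two {a b g : Fi24} (ha : a ∈ L) (hb : b ∈ L) (hne : a ≠ b) (hab : Commute a b) (hg : Commute g (a * b)) :
    (g * a * g⁻¹ = a ∧ g * b * g⁻¹ = b) ∨ (g * a * g⁻¹ = b ∧ g * b * g⁻¹ = a) :=
  H831.Two.perm_of_commute FiTwentyFour.isThreeTranspositionClass.1 (noRel.mono (by norm_num)) ha hb hne hab
    (fun g a ha => conj_mem_L ha g) hg

theorem exists_comm {d : Fi24} (hd : d ∈ L) : ∃ e ∈ L, e ≠ d ∧ Commute e d ∧ ∃ e' ∈ L, e' ≠ d ∧ Commute e' d ∧ e ≠ e' := by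
  have := finite_Fi24
  have h1 : 1 < {c | c ∈ L ∧ c ≠ d ∧ Commute c d}.ncard := by
    rw [ncard_commuting hd]
    norm_num
  rw [Set.one_lt_ncard_iff (Set.toFinite _)] at h1
  obtain ⟨e, e', ⟨h1, h2, h3⟩, ⟨h4, h5, h6⟩, h7⟩ := h1
  exact ⟨e, h1, h2, h3, e', h4, h5, h6, h7⟩

theorem mul_mem_Md {d e : Fi24} (hd : d ∈ L) (he : e ∈ L) (hde : Commute e d) : d * e ∈ Md d := by
  rw [mem_Md]
  refine ⟨mul_mem_commutator hd he, ?_⟩
  rw [mul_assoc, hde.eq]

/-- `C(Md d) = {1, d}` -/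
theorem cent_Md {d : Fi24} (hd : d ∈ L) {x : Fi24} (hx : ∀ m ∈ Md d, x * m = m * x) : x = 1 ∨ x = d := by
  obtain ⟨e, he, hed, ce, e', he', hed', ce', hee⟩ := exists_comm hd
  have h1 := perm_two hd he hed.symm ce.symm (show Commute x (d * e) from hx _ (mul_mem_Md hd he ce))
  have h2 := perm_two hd he' hed'.symm ce'.symm (show Commute x (d * e') from hx _ (mul_mem_Md hd he' ce'))
  have h3 : x * d * x⁻¹ = d := by
    rcases h1 with ⟨h1, -⟩ | ⟨h1, -⟩
    · exact h1
    · rcases h2 with ⟨h2, -⟩ | ⟨h2, -⟩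
      · exact h2
      · exact absurd (h1.symm.trans h2) hee
  have h4 : x * d = d * x := mul_inv_eq_iff_eq_mul.1 h3
  obtain ⟨ψ, hi, hψ⟩ := exists_psi hd
  have hdd : d * d = 1 := sq_L hd
  have key : ∀ y ∈ commutator Fi24, y * d = d * y → (∀ m ∈ Md d, y * m = m * y) → y = 1 := by
    intro y hy hyd hym
    obtain ⟨k, rfl⟩ := (hψ y).2 (mem_Md.2 ⟨hy, hyd⟩)
    rw [center23 (z := k), map_one]
    intro l
    apply hi
    rw [map_mul, map_mul]
    exact hym _ ((hψ _).1 ⟨l, rfl⟩)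
  by_cases hxc : x ∈ commutator Fi24
  · exact Or.inl (key x hxc h4 hx)
  · right
    have h5 : x * d ∈ commutator Fi24 := by
      rw [Subgroup.mul_mem_iff_of_index_two index_commutator]
      exact ⟨fun h => absurd h hxc, fun h => absurd h (FiTwentyFour.odd hd)⟩
    have h6 := key (x * d) h5 (by rw [h4, mul_assoc, h4, ← mul_assoc]) (fun m hm => by
      have h7 := (mem_Md.1 hm).2
      rw [mul_assoc, ← h7, ← mul_assoc, hx m hm, mul_assoc])
    calc x = x * (d * d) := by rw [hdd, mul_one]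
      _ = (x * d) * d := by rw [mul_assoc]
      _ = d := by rw [h6, one_mul]

theorem norm_Md {d x : Fi24} (hx : x * d = d * x) : x ∈ normalizer (Md d : Set Fi24) := by
  have key : ∀ y : Fi24, y * d = d * y → ∀ m ∈ Md d, y * m * y⁻¹ ∈ Md d := by
    intro y hy m hm
    obtain ⟨h1, h2⟩ := mem_Md.1 hm
    have hn : (commutator Fi24).Normal := inferInstance
    refine mem_Md.2 ⟨hn.conj_mem _ h1 y, ?_⟩
    have c1 : Commute y d := hy
    have c2 : Commute m d := h2
    exact ((c1.mul_left c2).mul_left c1.inv_left).eq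
  rw [mem_normalizer_iff]
  intro m
  constructor
  · exact key x hx m
  · intro h
    have c1 : Commute x d := hx
    have h1 := key x⁻¹ c1.inv_left.eq _ h
    have h2 : x⁻¹ * (x * m * x⁻¹) * x⁻¹⁻¹ = m := by group
    rwa [h2] at h1

/-! ### The M-rule -/

theorem rc23 (hIH : IHx (Nat.card Spor.Fi24')) : RC Fi23 := by
  have hf : Finite Fi23 := Nat.finite_of_card_ne_zero (by rw [card23]; norm_num)
  refine hIH Fi23 nsa23 ?_
  have h1 : Nat.card Spor.Fi24' = 1255205709190661721292800 := card_commutator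
  rw [card23, h1]
  norm_num

/-- **the M-rule with `Md d`** -/
theorem md_or (hIH : IHx (Nat.card Spor.Fi24')) {Ω : Type*} [MulAction Fi24 Ω] {ι : Type*} [Finite ι]
    {x : ι → Fi24} {r : ι → ℕ} (hx : PF x r) {d : Fi24} (hd : d ∈ L) (hcomm : ∀ i, x i * d = d * x i) (ω : Ω)
    (hcov : ∀ m ∈ Md d, ∃ i, x i • m • ω = m • ω) :
    Md d ≤ stabilizer Fi24 ω ∨ ∃ j, x j = d ∧ x j • ω = ω := by
  have := finite_Fi24
  obtain ⟨ψ, hi, hψ⟩ := exists_psi hd
  have h1 : Md d = ψ.range := by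
    ext x
    rw [← hψ]
    exact Iff.rfl
  let e : Fi23 ≃* Md d := (MonoidHom.ofInjective hi).trans (MulEquiv.subgroupCongr h1.symm)
  rcases mrule_RC nsa23.simple nsa23.ncomm x r hx.prime hx.inj hx.pow hx.comm (Md d) (perfect_Md hd)
    e.symm.toMonoidHom e.symm.surjective (by
      rw [(MonoidHom.ker_eq_bot_iff _).2 e.symm.injective]
      exact bot_le) (fun i => norm_Md (hcomm i)) (rc23 hIH) ω hcov with h | ⟨j, hj, hjω⟩
  · exact Or.inl h
  · right
    rcases cent_Md hd hj with h2 | h2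
    · exact absurd h2 (hx.ne j)
    · exact ⟨j, h2, hjω⟩

/-- **a family commuting with a transposition which is not a member** -/
theorem dead_comm (hIH : IHx (Nat.card Spor.Fi24')) {Ω : Type*} [Nonempty Ω] [MulAction Fi24 Ω]
    (hE : Env Fi24 Ω (commutator Fi24)) {ι : Type*} [Finite ι] {x : ι → Fi24} {r : ι → ℕ} (hx : PF x r) (hc : Cov Ω x)
    {d : Fi24} (hd : d ∈ L) (hcomm : ∀ i, x i * d = d * x i) (hne : ∀ i, x i ≠ d) : False := by
  obtain ⟨e, he, hed, ce, -⟩ := exists_comm hd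
  have h1 : d * e ≠ 1 := by
    intro h
    apply hed
    have hdd : d * d = 1 := sq_L hd
    exact (mul_left_cancel (h.trans hdd.symm))
  refine hE.not_all h1 fun ω => ?_
  rcases md_or hIH hx hd hcomm ω (fun m _ => hc (m • ω)) with h | ⟨j, hj, -⟩
  · exact h (mul_mem_Md hd he ce)
  · exact absurd hj (hne j)

/-! ### Products of three -/

theorem perm_three {a b c g : Fi24} (h : Tri3 a b c) (hg : Commute g (a * b * c)) :
    ∃ s : Equiv.Perm (Fin 3), ∀ i, g * (![a, b, c] : Fin 3 → Fi24) i * g⁻¹ = (![a, b, c] : Fin 3 → Fi24) (s i) := by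
  apply H831.Triple8.exists_perm3 FiTwentyFour.isThreeTranspositionClass.1 (noRel.mono (by norm_num))
    (d := (![a, b, c] : Fin 3 → Fi24))
  · intro i
    fin_cases i
    · exact h.ha
    · exact h.hb
    · exact h.hc
  · intro i j hij
    fin_cases i <;> fin_cases j
    · rfl
    · exact absurd hij h.nab
    · exact absurd hij h.nac
    · exact absurd hij.symm h.nab
    · rfl
    · exact absurd hij h.nbc
    · exact absurd hij.symm h.nac
    · exact absurd hij.symm h.nbc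
    · rfl
  · intro i j
    fin_cases i <;> fin_cases j
    · exact Commute.refl _
    · exact h.ab
    · exact h.ac
    · exact h.ab.symm
    · exact Commute.refl _
    · exact h.bc
    · exact h.ac.symm
    · exact h.bc.symm
    · exact Commute.refl _
  · exact fun g a ha => conj_mem_L ha g
  · exact hg

theorem perm3_pow : ∀ s : Equiv.Perm (Fin 3), s ^ 6 = 1 := by decide +kernel

theorem perm3_cases : ∀ s : Equiv.Perm (Fin 3), s ^ 3 = 1 → s = 1 ∨ (s 0 = 1 ∧ s 1 = 2 ∧ s 2 = 0) ∨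
    (s 0 = 2 ∧ s 2 = 1 ∧ s 1 = 0) := by decide +kernel

/-- the powers -/
theorem pow_perm {d : Fin 3 → Fi24} {g : Fi24} {s : Equiv.Perm (Fin 3)} (h : ∀ i, g * d i * g⁻¹ = d (s i)) (n : ℕ) :
    ∀ i, g ^ n * d i * (g ^ n)⁻¹ = d ((s ^ n) i) := by
  induction n with
  | zero => intro i; simp
  | succ n ih =>
    intro i
    calc g ^ (n + 1) * d i * (g ^ (n + 1))⁻¹ = g * (g ^ n * d i * (g ^ n)⁻¹) * g⁻¹ := by rw [pow_succ']; group
      _ = d (s ((s ^ n) i)) := by rw [ih, h]
      _ = _ := by rw [pow_succ']; rfl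

/-- an element of odd prime order commuting with `a b c` commutes with `a`, `b`, `c` or permutes them cyclically, and
then its order is three -/
theorem cyc_of_odd {a b c g : Fi24} (h : Tri3 a b c) (hg : Commute g (a * b * c)) {p : ℕ} (hp : p.Prime) (h2 : p ≠ 2)
    (hgp : g ^ p = 1) : (Commute g a ∧ Commute g b ∧ Commute g c) ∨
    (p = 3 ∧ g * a * g⁻¹ = b ∧ g * b * g⁻¹ = c ∧ g * c * g⁻¹ = a) ∨
    (p = 3 ∧ g * a * g⁻¹ = c ∧ g * c * g⁻¹ = b ∧ g * b * g⁻¹ = a) := by
  obtain ⟨s, hs⟩ := perm_three h hg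
  have hinj : Function.Injective (![a, b, c] : Fin 3 → Fi24) := by
    intro i j hij
    fin_cases i <;> fin_cases j
    · rfl
    · exact absurd hij h.nab
    · exact absurd hij h.nac
    · exact absurd hij.symm h.nab
    · rfl
    · exact absurd hij h.nbc
    · exact absurd hij.symm h.nac
    · exact absurd hij.symm h.nbc
    · rfl
  have hsp : s ^ p = 1 := by
    ext i
    have h1 := pow_perm hs p i
    rw [hgp] at h1
    have h2 : (![a, b, c] : Fin 3 → Fi24) i = (![a, b, c] : Fin 3 → Fi24) ((s ^ p) i) := by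
      rw [← h1]; group
    rw [← hinj h2]
    rfl
  have h0 := hs 0
  have h1 := hs 1
  have h2' := hs 2
  have key : s = 1 → (Commute g a ∧ Commute g b ∧ Commute g c) := by
    rintro rfl
    exact ⟨mul_inv_eq_iff_eq_mul.1 h0, mul_inv_eq_iff_eq_mul.1 h1, mul_inv_eq_iff_eq_mul.1 h2'⟩
  by_cases hp3 : p = 3
  · subst hp3
    rcases perm3_cases s hsp with h3 | ⟨e0, e1, e2⟩ | ⟨e0, e2, e1⟩
    · exact Or.inl (key h3)
    · right; left
      rw [e0] at h0
      rw [e1] at h1
      rw [e2] at h2'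
      exact ⟨rfl, h0, h1, h2'⟩
    · right; right
      rw [e0] at h0
      rw [e1] at h1
      rw [e2] at h2'
      exact ⟨rfl, h0, h2', h1⟩
  · left
    apply key
    have hco : Nat.Coprime p 6 := by
      rw [show 6 = 2 * 3 by norm_num]
      exact Nat.Coprime.mul_right ((Nat.coprime_primes hp Nat.prime_two).2 h2)
        ((Nat.coprime_primes hp Nat.prime_three).2 hp3)
    have h3 : orderOf s ∣ Nat.gcd p 6 := Nat.dvd_gcd (orderOf_dvd_of_pow_eq_one hsp)
      (orderOf_dvd_of_pow_eq_one (perm3_pow s))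
    rw [hco] at h3
    exact orderOf_eq_one_iff.1 (Nat.dvd_one.1 h3)

end Cfsg.Agent.H273.RG
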