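import Cfsg.Agent.H845.T13

/-!
# S3509, row `Fi24'`: elements of order 13 of `Fi24` (helper273)

`C(y) = ⟨y⟩ × ((S₃ × S₃).2)` for `y` of order 13: `thirteen_primes` gives the primes, `thirteen` puts an element of
order 3 of `C(y)` in the centralizer of a simple group containing `y`.
-/

set_option autoImplicit false

namespace Cfsg.Agent.H273.RG.Thirteen

open Subgroup Cfsg Cfsg.Agent.R08.FiTwentyFour
open Cfsg.Agent.R08.FiTwentyFour (L)

/-- the elements of `⟨a, b⟩ ≅ S₃` -/
theorem six_elts {G : Type*} [Group G] {a b : G} (aa : a * a = 1) (bb : b * b = 1)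
    (ab : a * b * a = b * a * b) {t : G} (ht : t ∈ closure ({a, b} : Set G)) :
    t = 1 ∨ t = a ∨ t = b ∨ t = a * b ∨ t = b * a ∨ t = a * b * a := by
  have ia : a⁻¹ = a := inv_eq_of_mul_eq_one_right aa
  have ib : b⁻¹ = b := inv_eq_of_mul_eq_one_right bb
  have c1 : ∀ y : G, a * (a * y) = y := fun y => by rw [← mul_assoc, aa, one_mul]
  have c2 : ∀ y : G, b * (b * y) = y := fun y => by rw [← mul_assoc, bb, one_mul]
  have ab' : a * (b * a) = b * (a * b) := by rw [← mul_assoc, ab, mul_assoc]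
  have hr : ∀ s : G, (s = 1 ∨ s = a ∨ s = b ∨ s = a * b ∨ s = b * a ∨ s = a * b * a) →
      (a * s = 1 ∨ a * s = a ∨ a * s = b ∨ a * s = a * b ∨ a * s = b * a ∨ a * s = a * b * a) ∧
      (b * s = 1 ∨ b * s = a ∨ b * s = b ∨ b * s = a * b ∨ b * s = b * a ∨ b * s = a * b * a) := by
    rintro s (rfl | rfl | rfl | rfl | rfl | rfl)
    · simp
    · refine ⟨Or.inl aa, by simp⟩
    · refine ⟨by simp, Or.inl bb⟩
    · exact ⟨Or.inr (Or.inr (Or.inl (c1 b))), Or.inr (Or.inr (Or.inr (Or.inr (Or.inr (by rw [ab, mul_assoc])))))⟩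
    · exact ⟨Or.inr (Or.inr (Or.inr (Or.inr (Or.inr (by rw [mul_assoc]))))), Or.inr (Or.inl (c2 a))⟩
    · refine ⟨Or.inr (Or.inr (Or.inr (Or.inr (Or.inl (by rw [mul_assoc, c1]))))), ?_⟩
      refine Or.inr (Or.inr (Or.inr (Or.inl ?_)))
      rw [ab, mul_assoc, c2]
  have hinv : ∀ s : G, s ∈ ({a, b} : Set G) → s⁻¹ = s := by
    rintro s (rfl | rfl)
    exacts [ia, ib]
  induction ht using closure_induction_left with
  | one => exact Or.inl rfl
  | mul_left x hx y _ ih =>
    rcases hx with rfl | rfl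
    · exact (hr y ih).1
    · exact (hr y ih).2
  | inv_mul_cancel x hx y _ ih =>
    rw [hinv x hx]
    rcases hx with rfl | rfl
    · exact (hr y ih).1
    · exact (hr y ih).2

theorem pow_six {G : Type*} [Group G] {a b : G} (aa : a * a = 1) (bb : b * b = 1)
    (ab : a * b * a = b * a * b) {t : G} (ht : t ∈ closure ({a, b} : Set G)) : t ^ 6 = 1 := by
  have h2 : ∀ s : G, s * s = 1 → s ^ 6 = 1 := fun s hs => by
    rw [show 6 = 2 * 3 from rfl, pow_mul, pow_two, hs, one_pow]
  have h3 : ∀ s : G, s * s * s = 1 → s ^ 6 = 1 := fun s hs => by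
    have e : s ^ 3 = 1 := by rw [pow_succ, pow_two, hs]
    rw [show 6 = 3 * 2 from rfl, pow_mul, e, one_pow]
  have hab : a * b * (a * b) * (a * b) = 1 := by
    calc a * b * (a * b) * (a * b) = (a * b * a) * (b * a * b) := by group
      _ = (a * b * a) * (a * b * a) := by rw [ab]
      _ = a * b * (a * a) * b * a := by group
      _ = a * (b * b) * a := by rw [aa]; group
      _ = 1 := by rw [bb, mul_one, aa]
  have hba : b * a * (b * a) * (b * a) = 1 := by
    calc b * a * (b * a) * (b * a) = (b * a * b) * (a * b * a) := by group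
      _ = (a * b * a) * (a * b * a) := by rw [ab]
      _ = a * b * (a * a) * b * a := by group
      _ = a * (b * b) * a := by rw [aa]; group
      _ = 1 := by rw [bb, mul_one, aa]
  have haba : a * b * a * (a * b * a) = 1 := by
    calc a * b * a * (a * b * a) = a * b * (a * a) * b * a := by group
      _ = a * (b * b) * a := by rw [aa]; group
      _ = 1 := by rw [bb, mul_one, aa]
  rcases six_elts aa bb ab ht with rfl | rfl | rfl | rfl | rfl | rfl
  · exact one_pow 6
  · exact h2 _ aa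
  · exact h2 _ bb
  · exact h3 _ hab
  · exact h3 _ hba
  · exact h2 _ haba

section

universe w

variable {G : Type w} [Group G] {D : Set G} {l k u v x s : G}

/-- an element of `C(x)` preserving the triples -/
theorem factor (h : H845.T13Concl.Facts G D l k u v x s) {g : G} (hgx : g * x = x * g)
    (h1 : H845.T13Concl.Tri l k (g * l * g⁻¹)) :
    ∃ t ∈ closure ({l, k} : Set G), ∃ t' ∈ closure ({u, v} : Set G), ∃ n : ℤ, g = t * t' * x ^ n := by
  have hC : g ∈ centralizer ((zpowers x : Subgroup G) : Set G) := by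
    rw [mem_centralizer_iff]
    intro y hy
    obtain ⟨n, rfl⟩ := mem_zpowers_iff.1 hy
    exact ((show Commute g x from hgx).zpow_right n).symm
  have hg := centralizer_le_normalizer _ hC
  obtain ⟨h2, h3, h4⟩ := H845.T13Concl.pres h hg h1
  have hne : g * l * g⁻¹ ≠ g * k * g⁻¹ := fun e => h.lkn (by
    have : l = k := mul_left_cancel (mul_right_cancel e)
    rw [this])
  have hne' : g * u * g⁻¹ ≠ g * v * g⁻¹ := fun e => h.uvn (by
    have : u = v := mul_left_cancel (mul_right_cancel e)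
    rw [this])
  obtain ⟨t1, ht1, a1, a2⟩ := H845.T13Concl.exists_sym h.ll h.kk h.lk h1 h2 hne
  obtain ⟨t2, ht2, b1, b2⟩ := H845.T13Concl.exists_sym h.uu h.vv h.uv h3 h4 hne'
  have ct1 : closure ({l, k} : Set G) ≤ centralizer ({u, v} : Set G) := by
    rw [closure_le]
    intro y hy
    rw [SetLike.mem_coe, mem_centralizer_iff]
    rcases hy with rfl | rfl
    · rintro z (rfl | rfl)
      exacts [h.lu.symm, h.lv.symm]
    · rintro z (rfl | rfl)
      exacts [h.ku.symm, h.kv.symm]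
  have ct2 : closure ({u, v} : Set G) ≤ centralizer ({l, k} : Set G) := by
    rw [closure_le]
    intro y hy
    rw [SetLike.mem_coe, mem_centralizer_iff]
    rcases hy with rfl | rfl
    · rintro z (rfl | rfl)
      exacts [h.lu, h.ku]
    · rintro z (rfl | rfl)
      exacts [h.lv, h.kv]
  have e1 : ∀ z ∈ ({u, v} : Set G), Commute t1 z := fun z hz =>
    (mem_centralizer_iff.1 (ct1 ht1) z hz).symm
  have e2 : ∀ z ∈ ({l, k} : Set G), Commute t2 z := fun z hz =>
    (mem_centralizer_iff.1 (ct2 ht2) z hz).symm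
  have cx1 : closure ({l, k} : Set G) ≤ centralizer ({x} : Set G) := by
    rw [closure_le]
    intro y hy
    rw [SetLike.mem_coe, mem_centralizer_singleton_iff]
    rcases hy with rfl | rfl
    exacts [h.xl.symm, h.xk.symm]
  have cx2 : closure ({u, v} : Set G) ≤ centralizer ({x} : Set G) := by
    rw [closure_le]
    intro y hy
    rw [SetLike.mem_coe, mem_centralizer_singleton_iff]
    rcases hy with rfl | rfl
    exacts [h.xu.symm, h.xv.symm]
  have f1 : Commute t1 x := mem_centralizer_singleton_iff.1 (cx1 ht1)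
  have f2 : Commute t2 x := mem_centralizer_singleton_iff.1 (cx2 ht2)
  have key : ∀ {p q : G}, t1 * t2 * p * (t1 * t2)⁻¹ = q → g * p * g⁻¹ = q →
      (t1 * t2)⁻¹ * g * p = p * ((t1 * t2)⁻¹ * g) := by
    rintro p q rfl e
    calc (t1 * t2)⁻¹ * g * p = (t1 * t2)⁻¹ * (g * p * g⁻¹) * g := by group
      _ = (t1 * t2)⁻¹ * (t1 * t2 * p * (t1 * t2)⁻¹) * g := by rw [e]
      _ = p * ((t1 * t2)⁻¹ * g) := by group
  have kl : ∀ z ∈ ({l, k} : Set G), t1 * t2 * z * (t1 * t2)⁻¹ = t1 * z * t1⁻¹ := by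
    intro z hz
    calc t1 * t2 * z * (t1 * t2)⁻¹ = t1 * (t2 * z) * t2⁻¹ * t1⁻¹ := by group
      _ = t1 * (z * t2) * t2⁻¹ * t1⁻¹ := by rw [(e2 z hz).eq]
      _ = t1 * z * t1⁻¹ := by group
  have ku : ∀ z ∈ ({u, v} : Set G), t1 * t2 * z * (t1 * t2)⁻¹ = t2 * z * t2⁻¹ := by
    intro z hz
    have hz2 : t2 * z * t2⁻¹ ∈ closure ({u, v} : Set G) :=
      mul_mem (mul_mem ht2 (subset_closure hz)) (inv_mem ht2)
    have hc : t1 * (t2 * z * t2⁻¹) = (t2 * z * t2⁻¹) * t1 := by
      have h5 : t1 ∈ centralizer ((closure ({u, v} : Set G) : Subgroup G) : Set G) := by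
        rw [centralizer_closure]
        exact ct1 ht1
      exact (mem_centralizer_iff.1 h5 _ hz2).symm
    calc t1 * t2 * z * (t1 * t2)⁻¹ = t1 * (t2 * z * t2⁻¹) * t1⁻¹ := by group
      _ = (t2 * z * t2⁻¹) * t1 * t1⁻¹ := by rw [hc]
      _ = t2 * z * t2⁻¹ := by group
  have hK : (t1 * t2)⁻¹ * g ∈ centralizer ({l, k, u, v} : Set G) := by
    refine H845.T13Concl.mem4.2 ⟨key (q := g * l * g⁻¹) ?_ rfl, key (q := g * k * g⁻¹) ?_ rfl,
      key (q := g * u * g⁻¹) ?_ rfl, key (q := g * v * g⁻¹) ?_ rfl⟩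
    · rw [kl l (by simp), a1]
    · rw [kl k (by simp), a2]
    · rw [ku u (by simp), b1]
    · rw [ku v (by simp), b2]
  have hcx : (t1 * t2)⁻¹ * g * x = x * ((t1 * t2)⁻¹ * g) :=
    ((f1.mul_left f2).inv_left.mul_left (show Commute g x from hgx)).eq
  obtain ⟨n, hn⟩ := mem_zpowers_iff.1 (h.cent _ hK hcx)
  refine ⟨t1, ht1, t2, ht2, n, ?_⟩
  rw [hn]
  group

/-- powers of an element of `C(x)` preserving the triples -/
theorem factor_pow (h : H845.T13Concl.Facts G D l k u v x s) {g : G} (hgx : g * x = x * g)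
    (h1 : H845.T13Concl.Tri l k (g * l * g⁻¹)) :
    g ^ 78 = 1 ∧ g ^ 13 ∈ closure ({l, k, u, v} : Set G) := by
  obtain ⟨t, ht, t', ht', n, rfl⟩ := factor h hgx h1
  have m1 : closure ({l, k} : Set G) ≤ closure ({l, k, u, v} : Set G) := closure_mono (by
    rintro y (rfl | rfl) <;> simp)
  have m2 : closure ({u, v} : Set G) ≤ closure ({l, k, u, v} : Set G) := closure_mono (by
    rintro y (rfl | rfl) <;> simp)
  have c1 : Commute t t' := by
    have h5 : t ∈ centralizer ((closure ({u, v} : Set G) : Subgroup G) : Set G) := by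
      rw [centralizer_closure]
      have ct1 : closure ({l, k} : Set G) ≤ centralizer ({u, v} : Set G) := by
        rw [closure_le]
        intro y hy
        rw [SetLike.mem_coe, mem_centralizer_iff]
        rcases hy with rfl | rfl
        · rintro z (rfl | rfl)
          exacts [h.lu.symm, h.lv.symm]
        · rintro z (rfl | rfl)
          exacts [h.ku.symm, h.kv.symm]
      exact ct1 ht
    exact (mem_centralizer_iff.1 h5 _ ht').symm
  have cx : closure ({l, k, u, v} : Set G) ≤ centralizer ({x} : Set G) := by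
    rw [closure_le]
    intro y hy
    rw [SetLike.mem_coe, mem_centralizer_singleton_iff]
    rcases hy with rfl | rfl | rfl | rfl
    exacts [h.xl.symm, h.xk.symm, h.xu.symm, h.xv.symm]
  have c2 : Commute (t * t') (x ^ n) := by
    have h5 : Commute (t * t') x := mem_centralizer_singleton_iff.1 (cx (mul_mem (m1 ht) (m2 ht')))
    exact h5.zpow_right n
  have hx : (x ^ n) ^ 13 = 1 := by
    rw [← zpow_natCast, ← zpow_mul, mul_comm, zpow_mul, zpow_natCast, h.x13, one_zpow]
  constructor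
  · rw [c2.mul_pow, c1.mul_pow, show 78 = 6 * 13 from rfl, pow_mul t, pow_mul t', pow_six h.ll h.kk h.lk ht,
      pow_six h.uu h.vv h.uv ht', show 6 * 13 = 13 * 6 from rfl, pow_mul (x ^ n), hx]
    simp
  · rw [c2.mul_pow, hx, mul_one]
    exact pow_mem (mul_mem (m1 ht) (m2 ht')) 13

/-- the square of an element of `C(x)` preserves the triples -/
theorem sq_tri [Finite G] (h : H845.T13Concl.Facts G D l k u v x s) {g : G} (hgx : g * x = x * g) :
    H845.T13Concl.Tri l k (g ^ 2 * l * (g ^ 2)⁻¹) := by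
  have hC : g ∈ centralizer ((zpowers x : Subgroup G) : Set G) := by
    rw [mem_centralizer_iff]
    intro y hy
    obtain ⟨n, rfl⟩ := mem_zpowers_iff.1 hy
    exact ((show Commute g x from hgx).zpow_right n).symm
  have hg := centralizer_le_normalizer _ hC
  have h1 := H845.T13Concl.index_N1 h
  have h2 := Subgroup.sq_mem_of_index_two h1 ⟨g, hg⟩
  rw [mem_subgroupOf] at h2
  exact H845.T13Concl.tri_of_mem_N1 h h2

theorem main [Finite G] (h : H845.T13Concl.Facts G D l k u v x s) {g : G} (hgx : g * x = x * g) :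
    g ^ 156 = 1 ∧ (g ^ 3 = 1 → ∀ c ∈ centralizer ({l, k, u, v} : Set G), Commute g c) := by
  have h1 := factor_pow h (g := g ^ 2) ((show Commute g x from hgx).pow_left 2).eq (sq_tri h hgx)
  constructor
  · rw [show 156 = 2 * 78 from rfl, pow_mul]
    exact h1.1
  · intro h3 c hc
    have h4 : (g ^ 2) ^ 13 = g ^ 2 := by
      rw [← pow_mul, show 2 * 13 = 3 * 8 + 2 from rfl, pow_add, pow_mul, h3, one_pow, one_mul]
    rw [h4] at h1
    have h5 : g ∈ closure ({l, k, u, v} : Set G) := by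
      have h6 : g = (g ^ 2) ^ 2 := by
        rw [← pow_mul, show 2 * 2 = 3 + 1 from rfl, pow_succ, h3, one_mul]
      rw [h6]
      exact pow_mem h1.2 2
    rw [← centralizer_closure] at hc
    exact mem_centralizer_iff.1 hc g h5

end

/-! ### `Fi24` -/

/-- subgroups of order 13 of `Fi24` -/
theorem exists_conj {y : Spor.Fi24} (hy : orderOf y = 13) :
    ∃ g : Spor.Fi24, g * y * g⁻¹ ∈ zpowers H845.T13.x ∧ g⁻¹ * H845.T13.x * g ∈ zpowers y := by
  have := finite_Fi24
  obtain ⟨g, hg⟩ := (H845.T13Concl.concl H845.T13.facts).1 (zpowers y) (zpowers H845.T13.x)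
    (by rw [Nat.card_zpowers, hy]) (H845.T13Concl.card_x H845.T13.facts)
  refine ⟨g, ?_, ?_⟩
  · rw [← hg]
    exact ⟨y, mem_zpowers y, rfl⟩
  · have h1 : H845.T13.x ∈ (zpowers y).map (MulAut.conj g).toMonoidHom := by
      rw [hg]
      exact mem_zpowers _
    obtain ⟨z, hz, hzx⟩ := h1
    rw [← hzx]
    change g⁻¹ * (g * z * g⁻¹) * g ∈ zpowers y
    have e : g⁻¹ * (g * z * g⁻¹) * g = z := by group
    rw [e]
    exact hz

theorem isSimple_K : IsSimpleGroup ↥H845.T13.K := by
  obtain ⟨e⟩ := H845.T13.iso_K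
  have hs : IsSimpleGroup ↥(Cfsg.Lie.chevG2.group (ZMod 3)) := H845.GTwoIso.isSimple_chev
  have hnt : Nontrivial ↥H845.T13.K := e.toEquiv.nontrivial
  exact IsSimpleGroup.isSimpleGroup_of_surjective e.symm.toMonoidHom e.symm.surjective

theorem K_le : H845.T13.K ≤ commutator Spor.Fi24 := by
  have := finite_Fi24
  have hs := isSimple_K
  have hn : (commutator Spor.Fi24).Normal := inferInstance
  have hn' : ((commutator Spor.Fi24).subgroupOf H845.T13.K).Normal := inferInstance
  rcases hs.eq_bot_or_eq_top_of_normal _ hn' with h | h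
  · exfalso
    have h1 : ((commutator Spor.Fi24).subgroupOf H845.T13.K).index ∣ (commutator Spor.Fi24).index :=
      Subgroup.relIndex_dvd_index_of_normal _ _
    rw [h, Subgroup.index_bot, H845.T13.card_K, index_commutator] at h1
    norm_num at h1
  · rwa [subgroupOf_eq_top] at h

end Cfsg.Agent.H273.RG.Thirteen

namespace Cfsg.Agent.H273.RG

open Subgroup Cfsg Cfsg.Agent.R08.FiTwentyFour

theorem thirteen_primes {y x : Spor.Fi24} {r : ℕ} (hy : orderOf y = 13) (hr : r.Prime) (hx : orderOf x = r)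
    (hc : Commute x y) : r = 2 ∨ r = 3 ∨ r = 13 := by
  have := finite_Fi24
  obtain ⟨g, -, hg⟩ := Thirteen.exists_conj hy
  obtain ⟨n, hn⟩ := mem_zpowers_iff.1 hg
  have h1 : (g * x * g⁻¹) * H845.T13.x = H845.T13.x * (g * x * g⁻¹) := by
    have h2 : Commute x (g⁻¹ * H845.T13.x * g) := by
      rw [← hn]
      exact hc.zpow_right n
    calc (g * x * g⁻¹) * H845.T13.x = g * (x * (g⁻¹ * H845.T13.x * g)) * g⁻¹ := by group
      _ = g * ((g⁻¹ * H845.T13.x * g) * x) * g⁻¹ := by rw [h2.eq]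
      _ = _ := by group
  have h2 := (Thirteen.main H845.T13.facts h1).1
  rw [conj_pow] at h2
  have h3 : x ^ 156 = 1 := by
    have : x ^ 156 = g⁻¹ * (g * x ^ 156 * g⁻¹) * g := by group
    rw [this, h2]
    group
  have h4 : r ∣ 2 * 2 * 3 * 13 := by
    rw [← hx]
    exact orderOf_dvd_of_pow_eq_one h3
  have d2 : ∀ p : ℕ, p.Prime → r ∣ p → r = p := fun p hp h => (Nat.prime_dvd_prime_iff_eq hr hp).1 h
  rcases (Nat.Prime.dvd_mul hr).1 h4 with h4 | h4
  · rcases (Nat.Prime.dvd_mul hr).1 h4 with h4 | h4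
    · rcases (Nat.Prime.dvd_mul hr).1 h4 with h4 | h4
      · exact Or.inl (d2 2 Nat.prime_two h4)
      · exact Or.inl (d2 2 Nat.prime_two h4)
    · exact Or.inr (Or.inl (d2 3 Nat.prime_three h4))
  · exact Or.inr (Or.inr (d2 13 (by norm_num) h4))

theorem thirteen {y x : Spor.Fi24} (hy : orderOf y = 13) (hx : orderOf x = 3) (hc : Commute x y) :
    ∃ K : Subgroup Spor.Fi24, K ≤ commutator Spor.Fi24 ∧ IsSimpleGroup K ∧ y ∈ K ∧ (∀ k ∈ K, Commute x k) ∧
      2 ∣ Nat.card K := by
  have := finite_Fi24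
  obtain ⟨g, hgy, hg⟩ := Thirteen.exists_conj hy
  obtain ⟨n, hn⟩ := mem_zpowers_iff.1 hg
  have h1 : (g * x * g⁻¹) * H845.T13.x = H845.T13.x * (g * x * g⁻¹) := by
    have h2 : Commute x (g⁻¹ * H845.T13.x * g) := by
      rw [← hn]
      exact hc.zpow_right n
    calc (g * x * g⁻¹) * H845.T13.x = g * (x * (g⁻¹ * H845.T13.x * g)) * g⁻¹ := by group
      _ = g * ((g⁻¹ * H845.T13.x * g) * x) * g⁻¹ := by rw [h2.eq]
      _ = _ := by group
  have h3 : (g * x * g⁻¹) ^ 3 = 1 := by
    rw [conj_pow, ← hx, pow_orderOf_eq_one]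
    group
  have h2 := (Thirteen.main H845.T13.facts h1).2 h3
  have hinj : Function.Injective (MulAut.conj g⁻¹).toMonoidHom := (MulAut.conj g⁻¹).injective
  refine ⟨H845.T13.K.map (MulAut.conj g⁻¹).toMonoidHom, ?_, ?_, ?_, ?_, ?_⟩
  · rintro _ ⟨c, hc, rfl⟩
    have hn' : (commutator Spor.Fi24).Normal := inferInstance
    exact hn'.conj_mem _ (Thirteen.K_le hc) g⁻¹
  · have hs := Thirteen.isSimple_K
    have e := H845.T13.K.equivMapOfInjective _ hinj
    have : Nontrivial ↥(H845.T13.K.map (MulAut.conj g⁻¹).toMonoidHom) := e.symm.toEquiv.nontrivial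
    exact IsSimpleGroup.isSimpleGroup_of_surjective e.toMonoidHom e.surjective
  · refine ⟨g * y * g⁻¹, ?_, ?_⟩
    · exact (H845.T13Concl.zpowers_le_K H845.T13.facts) hgy
    · change g⁻¹ * (g * y * g⁻¹) * g⁻¹⁻¹ = y
      group
  · rintro _ ⟨c, hc, rfl⟩
    have h4 := (h2 c hc).eq
    change x * (g⁻¹ * c * g⁻¹⁻¹) = (g⁻¹ * c * g⁻¹⁻¹) * x
    calc x * (g⁻¹ * c * g⁻¹⁻¹) = g⁻¹ * (g * x * g⁻¹ * c) * g := by group
      _ = g⁻¹ * (c * (g * x * g⁻¹)) * g := by rw [h4]
      _ = _ := by group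
  · rw [card_map_of_injective hinj, H845.T13.card_K]
    norm_num

end Cfsg.Agent.H273.RG
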