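import Cfsg.Agent.CTwoTab.FiTF
import Cfsg.Agent.H86.RG.Fi24Asm
import Cfsg.Agent.H867.RC.Spor

/-!
# S3509, row `Fi24'`: covers commuting with a 2-central involution (helper273)

`rule2B` : the members of a cover of a `Fi24'`-set do not all commute with a product `z` of four commuting
transpositions, if `z` is the only possible member of order 2 (`Q = O₂(C(z)) = 2^{1+12}`, `C(Q) = ⟨z⟩`).
-/

set_option autoImplicit false

namespace Cfsg.Agent.H273.RG

open MulAction Subgroup Cfsg Cfsg.Agent.R08 Cfsg.Agent.H106.RC Cfsg.Agent.H873.RG Cfsg.Agent.H86.RG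
open Cfsg.Spor (Fi24 Fi24')

/-- a product of four distinct commuting transpositions is conjugate to `z0` -/
theorem conj_z0 {z : Fi24'} {l : List Fi24} (hl : Fac l 4 (z : Fi24)) :
    ∃ g : Fi24', z = g * CTwoTab.FiTF.z0 * g⁻¹ := by
  obtain ⟨hn, hlen, hD, hc, hp⟩ := hl
  obtain ⟨a, b, c, d, rfl⟩ : ∃ a b c d, l = [a, b, c, d] := by
    match l, hlen with
    | [a, b, c, d], _ => exact ⟨a, b, c, d, rfl⟩
  have ma : a ∈ [a, b, c, d] := by simp
  have mb : b ∈ [a, b, c, d] := by simp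
  have mc : c ∈ [a, b, c, d] := by simp
  have md : d ∈ [a, b, c, d] := by simp
  simp only [List.nodup_cons, List.mem_cons, List.not_mem_nil, or_false, not_or, List.nodup_nil,
    and_true, not_false_eq_true] at hn
  obtain ⟨⟨nab, nac, nad⟩, ⟨nbc, nbd⟩, ncd⟩ := hn
  have tet : TetTwo.IsTet FiTwentyFour.L (z : Fi24) a b c d :=
    { ha := hD a ma, hb := hD b mb, hc := hD c mc, hd := hD d md
      ab := hc a ma b mb, ac := hc a ma c mc, ad := hc a ma d md, bc := hc b mb c mc
      bd := hc b mb d md, cd := hc c mc d md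
      nab := nab, nac := nac, nad := nad, nbc := nbc, nbd := nbd, ncd := ncd
      prod := by rw [← hp]; simp [mul_assoc] }
  exact CTwoTab.FiTF.conj_tet tet

/-- **covers commuting with a 2-central involution** -/
theorem rule2B {Ω ι : Type} [Finite Ω] [Nonempty Ω] [Finite ι] [MulAction Spor.Fi24' Ω]
    (hE : Env Spor.Fi24' Ω (⊤ : Subgroup Spor.Fi24')) {x : ι → Fi24'} {r : ι → ℕ} (hx : PF x r) (hc : Cov Ω x)
    (z : Spor.Fi24') (l : List Spor.Fi24) (hl : Fac l 4 (z : Fi24)) (hz : ∀ i, x i * z = z * x i)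
    (h2 : ∀ i, r i = 2 → x i = z) : False := by
  have := FiTwentyFour.finite_Fi24
  have hfin' : Finite Spor.Fi24' := inferInstance
  obtain ⟨g, hg⟩ := conj_z0 hl
  set z0 := CTwoTab.FiTF.z0
  -- `O₂(C(z))`
  let Q : Subgroup Fi24' := CTwoTab.FiTF.R0.map (MulAut.conj g).toMonoidHom
  have hQm : ∀ {y : Fi24'}, y ∈ CTwoTab.FiTF.R0 → g * y * g⁻¹ ∈ Q := fun hy => ⟨_, hy, rfl⟩
  have hQn : ∀ c : Fi24', c * z = z * c → c ∈ normalizer (Q : Set Fi24') := by
    have key : ∀ c : Fi24', c * z = z * c → ∀ y ∈ Q, c * y * c⁻¹ ∈ Q := by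
      rintro c hcz _ ⟨y, hy, rfl⟩
      have h3 : (g⁻¹ * c * g) ∈ centralizer ({z0} : Set Fi24') := by
        rw [mem_centralizer_singleton_iff]
        calc g⁻¹ * c * g * z0 = g⁻¹ * (c * (g * z0 * g⁻¹)) * g := by group
          _ = g⁻¹ * ((g * z0 * g⁻¹) * c) * g := by rw [← hg, hcz]
          _ = z0 * (g⁻¹ * c * g) := by group
      have h4 := hQm (CTwoTab.FiTF.R0_norm _ h3 y hy)
      change c * (g * y * g⁻¹) * c⁻¹ ∈ Q
      have e : c * (g * y * g⁻¹) * c⁻¹ = g * (g⁻¹ * c * g * y * (g⁻¹ * c * g)⁻¹) * g⁻¹ := by group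
      rw [e]
      exact h4
    intro c hcz
    rw [mem_normalizer_iff]
    intro y
    constructor
    · exact key c hcz y
    · intro hy
      have hcz' : c⁻¹ * z = z * c⁻¹ := (show Commute c z from hcz).inv_left.eq
      have h5 := key c⁻¹ hcz' _ hy
      have e : c⁻¹ * (c * y * c⁻¹) * c⁻¹⁻¹ = y := by group
      rwa [e] at h5
  have hcent : ∀ c : Fi24', (∀ u ∈ Q, u * c = c * u) → c = 1 ∨ c = z := by
    intro c h
    have h1 : ∀ y ∈ CTwoTab.FiTF.R0, (g⁻¹ * c * g) * y = y * (g⁻¹ * c * g) := by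
      intro y hy
      have h3 := h _ (hQm hy)
      calc g⁻¹ * c * g * y = g⁻¹ * (c * (g * y * g⁻¹)) * g := by group
        _ = g⁻¹ * ((g * y * g⁻¹) * c) * g := by rw [h3]
        _ = _ := by group
    rcases CTwoTab.FiTF.R0_cent _ h1 with h3 | h3
    · left
      have : c = g * (g⁻¹ * c * g) * g⁻¹ := by group
      rw [this, h3]; group
    · right
      have : c = g * (g⁻¹ * c * g) * g⁻¹ := by group
      rw [this, h3, hg]
  have hz1 : z ≠ 1 := by
    intro h
    have h4 : z0 = 1 := by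
      have : z0 = g⁻¹ * z * g := by rw [hg]; group
      rw [this, h]; group
    exact KFacts.FiTF.frame.z1 (congrArg Subtype.val h4)
  refine Cfsg.Agent.H867.RC.ruleA' hE hx hc Nat.prime_two Q ?_ (fun i => hQn _ (hz i)) hz1 ?_ ?_ ?_ ?_
  · exact CTwoTab.FiTF.R0_p.map _
  · rintro _ ⟨y, hy, rfl⟩
    have h3 := mem_centralizer_singleton_iff.1 (CTwoTab.FiTF.R0_le hy)
    change (g * y * g⁻¹) * z = z * (g * y * g⁻¹)
    rw [hg]
    calc (g * y * g⁻¹) * (g * z0 * g⁻¹) = g * (y * z0) * g⁻¹ := by group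
      _ = g * (z0 * y) * g⁻¹ := by rw [h3]
      _ = _ := by group
  · intro c _ hcc _ hc1
    rcases hcent c hcc with h3 | h3
    · exact absurd h3 hc1
    · rw [h3]
      exact mem_zpowers z
  · intro i hi
    by_contra h3
    push Not at h3
    rcases hcent (x i) h3 with h4 | h4
    · exact hx.ne i h4
    · have h5 : z ^ 2 = 1 := by
        rw [hg, conj_pow]
        have h6 : z0 ^ 2 = 1 := by
          rw [pow_two]
          exact Subtype.ext KFacts.FiTF.frame.zz
        rw [h6]; group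
      have h6 : orderOf (x i) = r i := by
        have : Fact (r i).Prime := ⟨hx.prime i⟩
        exact orderOf_eq_prime (hx.pow i) (hx.ne i)
      have h7 : r i ∣ 2 := by
        rw [← h6, h4]
        exact orderOf_dvd_of_pow_eq_one h5
      exact hi ((Nat.prime_dvd_prime_iff_eq (hx.prime i) Nat.prime_two).1 h7)
  · intro i hi
    rw [h2 i hi]
    exact mem_zpowers z

theorem two4 : Two4 := fun hE _ _ hx hc z l hl hz h2 => rule2B hE hx hc z l hl hz h2

end Cfsg.Agent.H273.RG
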